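import Mathlib
import Groth.Agent.Lib.Helper24.FibreDim.StalkPair

/-!
# `dim A ≤ dim B` for a homomorphism of Noetherian local rings surjective on spectra (helper24)
-/

set_option autoImplicit false
set_option linter.style.haveILetI false
universe u v
open IsLocalRing
open scoped Pointwise

namespace Groth.Agent.Lib.Helper24.OpenAt

/-- Every prime of `A` is the contraction of a prime of `B`. -/
def SpecSurj {A : Type*} {B : Type*} [CommRing A] [CommRing B] (φ : A →+* B) : Prop :=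
  ∀ P : Ideal A, P.IsPrime → ∃ Q : Ideal B, Q.IsPrime ∧ Q.comap φ = P

section basic
variable {A : Type*} {B : Type*} [CommRing A] [CommRing B]

theorem mem_map_mk_iff {J Q : Ideal B} (hJQ : J ≤ Q) (b : B) :
    Ideal.Quotient.mk J b ∈ Q.map (Ideal.Quotient.mk J) ↔ b ∈ Q := by
  rw [← Ideal.mem_comap, Ideal.comap_map_of_surjective _ Ideal.Quotient.mk_surjective,
    ← RingHom.ker_eq_comap_bot, Ideal.mk_ker, sup_eq_left.mpr hJQ]

theorem isPrime_map_mk {J Q : Ideal B} (hQ : Q.IsPrime) (hJQ : J ≤ Q) :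
    (Q.map (Ideal.Quotient.mk J)).IsPrime :=
  Ideal.map_isPrime_of_surjective Ideal.Quotient.mk_surjective (by rwa [Ideal.mk_ker])

theorem SpecSurj.comap_maximalIdeal [IsLocalRing A] [IsLocalRing B] {φ : A →+* B}
    (h : SpecSurj φ) : (maximalIdeal B).comap φ = maximalIdeal A := by
  obtain ⟨Q, hQ, hQm⟩ := h (maximalIdeal A) inferInstance
  have h1 : Q ≤ maximalIdeal B := le_maximalIdeal hQ.ne_top
  have h2 : maximalIdeal A ≤ (maximalIdeal B).comap φ := hQm ▸ Ideal.comap_mono h1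
  have h3 : (maximalIdeal B).comap φ ≠ ⊤ :=
    (Ideal.comap_isPrime φ (maximalIdeal B)).ne_top
  exact ((maximalIdeal.isMaximal A).eq_of_le h3 h2).symm

theorem SpecSurj.quotient {φ : A →+* B} (h : SpecSurj φ) (I : Ideal A) :
    SpecSurj (Ideal.quotientMap (I.map φ) φ Ideal.le_comap_map) := by
  intro P₁ hP₁
  have hP : (P₁.comap (Ideal.Quotient.mk I)).IsPrime := Ideal.comap_isPrime _ _
  obtain ⟨Q, hQ, hQP⟩ := h _ hP
  have hIQ : I.map φ ≤ Q := by
    rw [Ideal.map_le_iff_le_comap, hQP]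
    intro a ha
    show Ideal.Quotient.mk I a ∈ P₁
    rw [Ideal.Quotient.eq_zero_iff_mem.mpr ha]
    exact zero_mem _
  refine ⟨Q.map (Ideal.Quotient.mk (I.map φ)), isPrime_map_mk hQ hIQ, ?_⟩
  ext a₁
  obtain ⟨a, rfl⟩ := Ideal.Quotient.mk_surjective a₁
  rw [Ideal.mem_comap, Ideal.quotientMap_mk, mem_map_mk_iff hIQ, ← Ideal.mem_comap, hQP]
  rfl

theorem SpecSurj.quotient_right [IsLocalRing A] [IsLocalRing B] {φ : A →+* B}
    (h : SpecSurj φ) (J : Ideal B) (hJtop : J ≠ ⊤)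
    (hJ : ∀ P : Ideal A, P.IsPrime → P ≠ maximalIdeal A →
      ∃ Q : Ideal B, Q.IsPrime ∧ J ≤ Q ∧ Q.comap φ = P) :
    SpecSurj ((Ideal.Quotient.mk J).comp φ) := by
  intro P hP
  by_cases hPm : P = maximalIdeal A
  · have hJm : J ≤ maximalIdeal B := le_maximalIdeal hJtop
    refine ⟨(maximalIdeal B).map (Ideal.Quotient.mk J), isPrime_map_mk inferInstance hJm, ?_⟩
    ext a
    rw [Ideal.mem_comap, RingHom.comp_apply, mem_map_mk_iff hJm, ← Ideal.mem_comap,
      h.comap_maximalIdeal, hPm]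
  · obtain ⟨Q, hQ, hJQ, hQP⟩ := hJ P hP hPm
    refine ⟨Q.map (Ideal.Quotient.mk J), isPrime_map_mk hQ hJQ, ?_⟩
    ext a
    rw [Ideal.mem_comap, RingHom.comp_apply, mem_map_mk_iff hJQ, ← Ideal.mem_comap, hQP]

end basic

/-- If `r` lies in no minimal prime, then `dim R/(r) + 1 ≤ dim R`. -/
theorem ringKrullDim_quotient_succ_le_of_notMem_minimalPrimes {R : Type*} [CommRing R]
    [IsNoetherianRing R] {r : R} (hr : ∀ p ∈ minimalPrimes R, r ∉ p) :
    ringKrullDim (R ⧸ Ideal.span {r}) + 1 ≤ ringKrullDim R := by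
  have h1 := Module.supportDim_quotSMulTop_succ_le_of_notMem_minimalPrimes (R := R) (M := R)
    (x := r) (by
      intro p hp
      rw [Module.annihilator_eq_bot.mpr inferInstance] at hp
      exact hr p hp)
  rw [Module.supportDim_self_eq_ringKrullDim, Module.supportDim_quotient_eq_ringKrullDim] at h1
  have h : Ideal.span {r} = r • (⊤ : Ideal R) := by
    simp [← Submodule.ideal_span_singleton_smul]
  rw [ringKrullDim_eq_of_ringEquiv (Ideal.quotientEquivAlgOfEq R h).toRingEquiv]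
  exact h1

theorem cancel_succ {n : ℕ} {x : WithBot ℕ∞}
    (h : ((n + 1 : ℕ) : WithBot ℕ∞) ≤ x + 1) : ((n : ℕ) : WithBot ℕ∞) ≤ x := by
  cases x with
  | bot => simp at h
  | coe a =>
    cases a with
    | top => exact le_top
    | coe m =>
      have h' : (((n + 1 : ℕ) : ℕ∞) : WithBot ℕ∞) ≤ (((m + 1 : ℕ) : ℕ∞) : WithBot ℕ∞) := by
        have e1 : ((((m : ℕ) : ℕ∞) : WithBot ℕ∞) + 1) = (((m + 1 : ℕ) : ℕ∞) : WithBot ℕ∞) := by
          push_cast; rfl
        rw [← e1]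
        exact h
      have h'' : n + 1 ≤ m + 1 := by exact_mod_cast h'
      have : n ≤ m := by omega
      exact_mod_cast this

/-- The main induction. -/
theorem le_dim_of_specSurj_aux (n : ℕ) : ∀ (A : Type u) (B : Type v) [CommRing A] [CommRing B]
    [IsNoetherianRing A] [IsLocalRing A] [IsNoetherianRing B] [IsLocalRing B] (φ : A →+* B),
    SpecSurj φ → ((n : ℕ) : WithBot ℕ∞) ≤ ringKrullDim A →
      ((n : ℕ) : WithBot ℕ∞) ≤ ringKrullDim B := by
  induction n with
  | zero =>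
    intro A B _ _ _ _ _ _ φ _ _
    exact_mod_cast ringKrullDim_nonneg_of_nontrivial
  | succ n ih =>
    intro A B _ _ _ _ _ _ φ h hdim
    -- Step 1: reduce to a domain
    obtain ⟨p₀, hp₀, hdim₀⟩ := FibreDim.exists_minimalPrime_dim_eq A
    haveI hp₀prime : p₀.IsPrime := hp₀.1.1
    have hp₀B : p₀.map φ ≠ ⊤ := by
      have h1 : p₀.map φ ≤ maximalIdeal B := by
        rw [Ideal.map_le_iff_le_comap, h.comap_maximalIdeal]
        exact le_maximalIdeal hp₀prime.ne_top
      exact fun htop => (maximalIdeal.isMaximal B).ne_top (top_le_iff.mp (htop ▸ h1))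
    haveI : Nontrivial (B ⧸ p₀.map φ) := Ideal.Quotient.nontrivial_iff.mpr hp₀B
    haveI : IsLocalRing (A ⧸ p₀) := .of_surjective' _ Ideal.Quotient.mk_surjective
    haveI : IsLocalRing (B ⧸ p₀.map φ) := .of_surjective' _ Ideal.Quotient.mk_surjective
    set φ₁ : A ⧸ p₀ →+* B ⧸ p₀.map φ := Ideal.quotientMap (p₀.map φ) φ Ideal.le_comap_map
      with hφ₁
    have h₁ : SpecSurj φ₁ := h.quotient p₀
    have hdim₁ : ((n + 1 : ℕ) : WithBot ℕ∞) ≤ ringKrullDim (A ⧸ p₀) := by rw [hdim₀]; exact hdim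
    -- `m ≠ ⊥` in `A ⧸ p₀`
    have hmbot : maximalIdeal (A ⧸ p₀) ≠ ⊥ := by
      intro hbot
      have h1 : ringKrullDim (A ⧸ p₀) = 0 := by
        rw [← IsLocalRing.maximalIdeal_height_eq_ringKrullDim, hbot, Ideal.height_bot]
        rfl
      rw [h1] at hdim₁
      have : ((n + 1 : ℕ) : WithBot ℕ∞) ≤ ((0 : ℕ) : WithBot ℕ∞) := hdim₁
      have : n + 1 ≤ 0 := by exact_mod_cast this
      omega
    -- Step 2: the components not over the closed point
    set S : Set (Ideal (B ⧸ p₀.map φ)) :=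
      {q | q ∈ minimalPrimes (B ⧸ p₀.map φ) ∧ q.comap φ₁ ≠ maximalIdeal (A ⧸ p₀)} with hS
    have hSfin : S.Finite :=
      (minimalPrimes.finite_of_isNoetherianRing (B ⧸ p₀.map φ)).subset (fun q hq => hq.1)
    set J : Ideal (B ⧸ p₀.map φ) := hSfin.toFinset.inf id with hJdef
    have hJle : ∀ q ∈ S, J ≤ q := fun q hq =>
      Finset.inf_le (f := id) (hSfin.mem_toFinset.mpr hq)
    have hJprime : ∀ Q : Ideal (B ⧸ p₀.map φ), Q.IsPrime → J ≤ Q → ∃ q ∈ S, q ≤ Q := by
      intro Q hQ hJQ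
      obtain ⟨q, hq, hqQ⟩ := (Ideal.IsPrime.inf_le' hQ).mp hJQ
      exact ⟨q, hSfin.mem_toFinset.mp hq, hqQ⟩
    have hJ : ∀ P : Ideal (A ⧸ p₀), P.IsPrime → P ≠ maximalIdeal (A ⧸ p₀) →
        ∃ Q : Ideal (B ⧸ p₀.map φ), Q.IsPrime ∧ J ≤ Q ∧ Q.comap φ₁ = P := by
      intro P hP hPm
      obtain ⟨Q, hQ, hQP⟩ := h₁ P hP
      obtain ⟨q, hq, hqQ⟩ := Ideal.exists_minimalPrimes_le (I := (⊥ : Ideal (B ⧸ p₀.map φ)))
        (J := Q) bot_le
      have hqS : q ∈ S := by
        refine ⟨hq, fun hqm => hPm ?_⟩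
        have h1 : maximalIdeal (A ⧸ p₀) ≤ P := by
          rw [← hqm, ← hQP]
          exact Ideal.comap_mono hqQ
        exact ((maximalIdeal.isMaximal (A ⧸ p₀)).eq_of_le hP.ne_top h1).symm
      exact ⟨Q, hQ, (hJle q hqS).trans hqQ, hQP⟩
    have hJtop : J ≠ ⊤ := by
      obtain ⟨Q, hQ, hJQ, -⟩ := hJ ⊥ Ideal.isPrime_bot hmbot.symm
      exact fun htop => hQ.ne_top (top_le_iff.mp (htop ▸ hJQ))
    haveI : Nontrivial ((B ⧸ p₀.map φ) ⧸ J) := Ideal.Quotient.nontrivial_iff.mpr hJtop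
    haveI : IsLocalRing ((B ⧸ p₀.map φ) ⧸ J) := .of_surjective' _ Ideal.Quotient.mk_surjective
    set φ₂ : A ⧸ p₀ →+* (B ⧸ p₀.map φ) ⧸ J := (Ideal.Quotient.mk J).comp φ₁ with hφ₂
    have h₂ : SpecSurj φ₂ := h₁.quotient_right J hJtop hJ
    -- Step 3: prime avoidance
    classical
    set T : Finset (Ideal (A ⧸ p₀)) :=
      insert ⊥ (hSfin.toFinset.image (fun q => q.comap φ₁)) with hT
    have hTprime : ∀ i ∈ T, i ≠ (⊥ : Ideal (A ⧸ p₀)) → i ≠ (⊥ : Ideal (A ⧸ p₀)) →
        (id i : Ideal (A ⧸ p₀)).IsPrime := by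
      intro i hi _ _
      rw [hT, Finset.mem_insert, Finset.mem_image] at hi
      rcases hi with rfl | ⟨q, hq, rfl⟩
      · exact Ideal.isPrime_bot
      · haveI : q.IsPrime := (hSfin.mem_toFinset.mp hq).1.1.1
        exact Ideal.comap_isPrime φ₁ q
    have havoid : ¬ ((maximalIdeal (A ⧸ p₀) : Set (A ⧸ p₀)) ⊆ ⋃ i ∈ (↑T : Set (Ideal (A ⧸ p₀))),
        ((id i : Ideal (A ⧸ p₀)) : Set (A ⧸ p₀))) := by
      rw [Ideal.subset_union_prime (f := id) ⊥ ⊥ hTprime]
      rintro ⟨i, hi, hmi⟩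
      rw [hT, Finset.mem_insert, Finset.mem_image] at hi
      rcases hi with rfl | ⟨q, hq, rfl⟩
      · exact hmbot (le_bot_iff.mp hmi)
      · have hqS := hSfin.mem_toFinset.mp hq
        haveI : q.IsPrime := hqS.1.1.1
        exact hqS.2 ((maximalIdeal.isMaximal (A ⧸ p₀)).eq_of_le
          (Ideal.comap_isPrime φ₁ q).ne_top hmi).symm
    obtain ⟨a, ham, haT⟩ := Set.not_subset.mp havoid
    have ha0 : a ≠ 0 := by
      intro h0
      apply haT
      refine Set.mem_biUnion (x := (⊥ : Ideal (A ⧸ p₀))) (by simp [hT]) ?_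
      show a ∈ (⊥ : Ideal (A ⧸ p₀))
      rw [h0]
      exact zero_mem _
    have haS : ∀ q ∈ S, φ₁ a ∉ q := by
      intro q hq hmem
      apply haT
      refine Set.mem_biUnion (x := q.comap φ₁) ?_ hmem
      rw [hT]
      simp only [Finset.coe_insert, Finset.coe_image, Set.mem_insert_iff, Set.mem_image,
        Finset.mem_coe]
      exact Or.inr ⟨q, hSfin.mem_toFinset.mpr hq, rfl⟩
    -- Step 4: dimension of `A₁ / a`
    have hdim₃ : ((n : ℕ) : WithBot ℕ∞) ≤ ringKrullDim ((A ⧸ p₀) ⧸ Ideal.span {a}) := by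
      apply cancel_succ
      have h1 := Ideal.height_le_ringKrullDim_quotient_add_one (p := maximalIdeal (A ⧸ p₀)) ham
      rw [IsLocalRing.maximalIdeal_height_eq_ringKrullDim] at h1
      exact hdim₁.trans h1
    -- Step 5: apply the induction hypothesis
    have hspan : Ideal.span {a} ≠ (⊤ : Ideal (A ⧸ p₀)) := by
      intro htop
      have : Ideal.span {a} ≤ maximalIdeal (A ⧸ p₀) := by
        rw [Ideal.span_le, Set.singleton_subset_iff]
        exact ham
      exact (maximalIdeal.isMaximal (A ⧸ p₀)).ne_top (top_le_iff.mp (htop ▸ this))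
    haveI : Nontrivial ((A ⧸ p₀) ⧸ Ideal.span {a}) := Ideal.Quotient.nontrivial_iff.mpr hspan
    haveI : IsLocalRing ((A ⧸ p₀) ⧸ Ideal.span {a}) :=
      .of_surjective' _ Ideal.Quotient.mk_surjective
    have hspanB : (Ideal.span {a}).map φ₂ ≠ ⊤ := by
      have h1 : (Ideal.span {a}).map φ₂ ≤ maximalIdeal ((B ⧸ p₀.map φ) ⧸ J) := by
        rw [Ideal.map_le_iff_le_comap, h₂.comap_maximalIdeal, Ideal.span_le,
          Set.singleton_subset_iff]
        exact ham
      exact fun htop => (maximalIdeal.isMaximal _).ne_top (top_le_iff.mp (htop ▸ h1))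
    haveI : Nontrivial (((B ⧸ p₀.map φ) ⧸ J) ⧸ (Ideal.span {a}).map φ₂) :=
      Ideal.Quotient.nontrivial_iff.mpr hspanB
    haveI : IsLocalRing (((B ⧸ p₀.map φ) ⧸ J) ⧸ (Ideal.span {a}).map φ₂) :=
      .of_surjective' _ Ideal.Quotient.mk_surjective
    have h₃ := h₂.quotient (Ideal.span {a})
    have hB₃ := ih _ _ _ h₃ hdim₃
    -- Step 6
    have hmapspan : (Ideal.span {a}).map φ₂ = Ideal.span {φ₂ a} := by
      rw [Ideal.map_span, Set.image_singleton]
    have hnot : ∀ p ∈ minimalPrimes ((B ⧸ p₀.map φ) ⧸ J), φ₂ a ∉ p := by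
      intro p hp hmem
      haveI : p.IsPrime := hp.1.1
      have hJcomap : J ≤ p.comap (Ideal.Quotient.mk J) := by
        intro b hb
        rw [Ideal.mem_comap, Ideal.Quotient.eq_zero_iff_mem.mpr hb]
        exact zero_mem _
      obtain ⟨q, hqS, hqp⟩ := hJprime _ (Ideal.comap_isPrime _ p) hJcomap
      haveI : q.IsPrime := hqS.1.1.1
      have hJq := hJle q hqS
      have hle : q.map (Ideal.Quotient.mk J) ≤ p := Ideal.map_le_iff_le_comap.mpr hqp
      have hge : p ≤ q.map (Ideal.Quotient.mk J) :=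
        hp.2 ⟨isPrime_map_mk inferInstance hJq, bot_le⟩ hle
      have h1 : φ₂ a ∈ q.map (Ideal.Quotient.mk J) := hge hmem
      rw [hφ₂, RingHom.comp_apply, mem_map_mk_iff hJq] at h1
      exact haS q hqS h1
    have h6 := ringKrullDim_quotient_succ_le_of_notMem_minimalPrimes hnot
    rw [← hmapspan] at h6
    -- Step 7
    have h7 : ringKrullDim ((B ⧸ p₀.map φ) ⧸ J) ≤ ringKrullDim B :=
      (ringKrullDim_quotient_le J).trans (ringKrullDim_quotient_le _)
    refine le_trans ?_ (h6.trans h7)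
    have : ((n + 1 : ℕ) : WithBot ℕ∞) = ((n : ℕ) : WithBot ℕ∞) + 1 := by push_cast; rfl
    rw [this]
    exact add_le_add_left hB₃ 1

/-- A homomorphism of Noetherian local rings which is surjective on spectra does not lower the
dimension. -/
theorem ringKrullDim_le_of_specSurj {A : Type u} {B : Type v} [CommRing A] [CommRing B]
    [IsNoetherianRing A] [IsLocalRing A] [IsNoetherianRing B] [IsLocalRing B] (φ : A →+* B)
    (h : SpecSurj φ) : ringKrullDim A ≤ ringKrullDim B := by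
  have hfin : ringKrullDim A ≠ ⊤ := ringKrullDim_ne_top
  have hbot : ringKrullDim A ≠ ⊥ := ringKrullDim_ne_bot
  cases hA : ringKrullDim A with
  | bot => exact absurd hA hbot
  | coe a =>
    cases a with
    | top => exact absurd hA hfin
    | coe n =>
      have := le_dim_of_specSurj_aux n A B φ h (le_of_eq hA.symm)
      exact this

end Groth.Agent.Lib.Helper24.OpenAt
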