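import Mathlib
import Groth.Agent.Lib.Helper24.OpenAt.SurjDim
import Groth.Agent.Lib.Helper24.FibreDim.Main3397
import Groth.Agent.Lib.lead.StalkDimIneq

/-!
# Morphisms open at the maximal points of a fibre: lifting generizations and dimensions (helper24)
-/

set_option autoImplicit false
set_option linter.style.haveILetI false
universe u
open scoped Cardinal
open AlgebraicGeometry CategoryTheory TopologicalSpace Topology
open Groth.Agent.Lib.Helper7 Groth.Agent.Lib.lead Groth.Agent.Lib.Helper18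

namespace Groth.Agent.Lib.Helper24.FibreDim

variable {X Y : Scheme.{u}}

/-- The dimension inequality for a prime `𝔭` of `O_{X,x}`, with `ξ` the corresponding generization
of `x` (no universally catenary hypothesis). -/
theorem stalk_pair_le' [IsLocallyNoetherian Y] (f : X ⟶ Y) [LocallyOfFiniteType f] (x : X)
    (𝔭 : Ideal (X.presheaf.stalk x)) [𝔭.IsPrime] :
    ∃ ξ : X, ξ ⤳ x ∧
      (𝔭 ∈ minimalPrimes (X.presheaf.stalk x) → ∀ ξ' : X, ξ' ⤳ ξ → ξ' = ξ) ∧
      ((∀ η : Y, η ⤳ f ξ → η = f ξ) →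
        𝔭.comap (f.stalkMap x).hom ∈ minimalPrimes (Y.presheaf.stalk (f x))) ∧
      ringKrullDim (X.presheaf.stalk x ⧸ 𝔭) + ((tr f x : ℕ) : WithBot ℕ∞) ≤
        ringKrullDim (Y.presheaf.stalk (f x) ⧸ 𝔭.comap (f.stalkMap x).hom) +
          ((tr f ξ : ℕ) : WithBot ℕ∞) := by
  obtain ⟨V, hV, U, hU, e, hxU⟩ := exists_chart f x
  letI : Algebra Γ(Y, V) Γ(X, U) := (f.appLE V U e).hom.toAlgebra
  have halg : algebraMap Γ(Y, V) Γ(X, U) = (f.appLE V U e).hom := rfl
  haveI : Algebra.FiniteType Γ(Y, V) Γ(X, U) := f.finiteType_appLE hV hU e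
  set p : Ideal Γ(Y, V) := (hV.primeIdealOf ⟨f x, e hxU⟩).asIdeal with hp
  set P : Ideal Γ(X, U) := (hU.primeIdealOf ⟨x, hxU⟩).asIdeal with hP
  haveI : P.LiesOver p := ResTrdegBridge.liesOver_primeIdealOf f x hV hU e hxU (e hxU) halg
  haveI : p.IsPrime := (hV.primeIdealOf ⟨f x, e hxU⟩).isPrime
  haveI : P.IsPrime := (hU.primeIdealOf ⟨x, hxU⟩).isPrime
  letI algY := TopCat.Presheaf.algebra_section_stalk Y.presheaf (⟨f x, e hxU⟩ : V)
  haveI locY : IsLocalization.AtPrime (Y.presheaf.stalk (f x)) p :=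
    hV.isLocalization_stalk ⟨f x, e hxU⟩
  letI algX := TopCat.Presheaf.algebra_section_stalk X.presheaf (⟨x, hxU⟩ : U)
  haveI locX : IsLocalization.AtPrime (X.presheaf.stalk x) P :=
    hU.isLocalization_stalk ⟨x, hxU⟩
  set Q : Ideal Γ(X, U) := 𝔭.under Γ(X, U) with hQ
  haveI hQprime : Q.IsPrime := Ideal.IsPrime.under _ 𝔭
  have hQP : Q ≤ P := under_le_of_atPrime P (X.presheaf.stalk x) 𝔭
  set 𝔮 : Ideal (Y.presheaf.stalk (f x)) := 𝔭.comap (f.stalkMap x).hom with h𝔮
  haveI h𝔮prime : 𝔮.IsPrime := Ideal.comap_isPrime _ 𝔭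
  have hsq : ∀ a : Γ(Y, V), (f.stalkMap x).hom (algebraMap Γ(Y, V) (Y.presheaf.stalk (f x)) a) =
      algebraMap Γ(X, U) (X.presheaf.stalk x) (algebraMap Γ(Y, V) Γ(X, U) a) := by
    intro a
    show (f.stalkMap x).hom ((Y.presheaf.germ V (f x) (e hxU)).hom a) =
      (X.presheaf.germ U x hxU).hom ((f.appLE V U e).hom a)
    rw [Scheme.Hom.germ_stalkMap_apply, Scheme.Hom.appLE, CommRingCat.hom_comp,
      RingHom.comp_apply, X.presheaf.germ_res_apply]
  have h𝔮u : 𝔮.under Γ(Y, V) = Q.under Γ(Y, V) := by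
    ext a
    simp only [Ideal.under, Ideal.mem_comap, h𝔮, hQ]
    rw [hsq a]
  obtain ⟨ξ', hξ'⟩ := AffPts.primeIdealOf_surjective hU ⟨Q, hQprime⟩
  obtain ⟨ξ, hξU⟩ := ξ'
  have hQeq : (hU.primeIdealOf ⟨ξ, hξU⟩).asIdeal = Q := congrArg PrimeSpectrum.asIdeal hξ'
  have hξx : ξ ⤳ x := by
    refine (AffPts.primeIdealOf_le_iff hU ⟨ξ, hξU⟩ ⟨x, hxU⟩).mp ?_
    show (hU.primeIdealOf ⟨ξ, hξU⟩).asIdeal ≤ P
    rw [hQeq]
    exact hQP
  have hQunder : Q.under Γ(Y, V) = (hV.primeIdealOf ⟨f ξ, e hξU⟩).asIdeal := by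
    rw [← hQeq]
    exact (ResTrdegBridge.liesOver_primeIdealOf f ξ hV hU e hξU (e hξU) halg).over.symm
  refine ⟨ξ, hξx, ?_, ?_, ?_⟩
  · intro hmin
    have h1 : Q ∈ minimalPrimes Γ(X, U) :=
      (mem_minimalPrimes_localization_iff P.primeCompl (X.presheaf.stalk x) 𝔭).mp hmin
    rw [← hQeq] at h1
    exact (AffPts.forall_specializes_eq_iff hU ⟨ξ, hξU⟩).mpr h1
  · intro hmax
    have h1 := (AffPts.forall_specializes_eq_iff hV ⟨f ξ, e hξU⟩).mp hmax
    rw [← hQunder, ← h𝔮u] at h1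
    exact (mem_minimalPrimes_localization_iff p.primeCompl (Y.presheaf.stalk (f x)) 𝔮).mpr h1
  · have hn := trdeg_chart f hV hU e x hxU halg p hp
    haveI hξover : (hU.primeIdealOf ⟨ξ, hξU⟩).asIdeal.LiesOver (Q.under Γ(Y, V)) := by
      rw [hQunder]
      exact ResTrdegBridge.liesOver_primeIdealOf f ξ hV hU e hξU (e hξU) halg
    haveI : Q.LiesOver (Q.under Γ(Y, V)) := ⟨rfl⟩
    have hE := trdeg_chart f hV hU e ξ hξU halg (Q.under Γ(Y, V)) hQunder
    rw [trdeg_congr_ideal (Q.under Γ(Y, V)) Q (hU.primeIdealOf ⟨ξ, hξU⟩).asIdeal hQeq] at hE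
    haveI : IsNoetherianRing (Y.presheaf.stalk (f x)) := inferInstance
    have key := height_pair_le_local p (Y.presheaf.stalk (f x)) P Q hQP (tr f x) (tr f ξ)
      hn hE
    rw [dim_quot_localization P (X.presheaf.stalk x) 𝔭,
      dim_quot_localization p (Y.presheaf.stalk (f x)) 𝔮, h𝔮u]
    exact_mod_cast key


end Groth.Agent.Lib.Helper24.FibreDim

namespace Groth.Agent.Lib.Helper24.OpenAt

open Groth.Agent.Lib.Helper24.FibreDim

variable {X Y : Scheme.{u}}

/-- If `f` is open at `z` and `X` is locally Noetherian, generizations of `f z` lift to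
generizations of `z`. -/
theorem exists_gen_of_isOpenAt [IsLocallyNoetherian X] (f : X ⟶ Y) (z : X)
    (hopen : EGA43.IsOpenAt f.base z) (y' : Y) (hy' : y' ⤳ f z) :
    ∃ z' : X, z' ⤳ z ∧ f z' = y' := by
  have hC : IsClosed (f ⁻¹' closure ({y'} : Set Y)) := isClosed_closure.preimage f.continuous
  obtain ⟨U0, hU0open, hzU0, hU0⟩ := JacDim.exists_nhd (X := X) _ hC z
  have hnhd : f '' U0 ∈ nhds (f z) := hopen U0 (hU0open.mem_nhds hzU0)
  obtain ⟨O, hOsub, hOopen, hzO⟩ := mem_nhds_iff.mp hnhd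
  have hy'O : y' ∈ O := hy'.mem_open hOopen hzO
  obtain ⟨t, htU0, hft⟩ := hOsub hy'O
  have htC : t ∈ f ⁻¹' closure ({y'} : Set Y) := by
    show f t ∈ closure ({y'} : Set Y)
    rw [hft]
    exact subset_closure rfl
  obtain ⟨μ, hμC, hμt, hμz⟩ := hU0 t ⟨htU0, htC⟩
  refine ⟨μ, hμz, ?_⟩
  have h1 : y' ⤳ f μ := specializes_iff_mem_closure.mpr hμC
  have h2 : f μ ⤳ y' := by
    rw [← hft]
    exact hμt.map f.continuous
  exact (h2.antisymm h1).eq

/-- Lifting of generizations at `z` means surjectivity on spectra of the local homomorphism. -/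
theorem specSurj_stalkMap (f : X ⟶ Y) (z : X)
    (hlift : ∀ y' : Y, y' ⤳ f z → ∃ z' : X, z' ⤳ z ∧ f z' = y') :
    SpecSurj (f.stalkMap z).hom := by
  intro 𝔮 h𝔮
  set q : PrimeSpectrum (Y.presheaf.stalk (f z)) := ⟨𝔮, h𝔮⟩ with hq
  have hy' : Y.fromSpecStalk (f z) q ⤳ f z := by
    have : Y.fromSpecStalk (f z) q ∈ Set.range (Y.fromSpecStalk (f z)) := ⟨q, rfl⟩
    rw [Scheme.range_fromSpecStalk] at this
    exact this
  obtain ⟨z', hz'z, hfz'⟩ := hlift _ hy'
  have hz'r : z' ∈ Set.range (X.fromSpecStalk z) := by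
    rw [Scheme.range_fromSpecStalk]
    exact hz'z
  obtain ⟨𝔭, h𝔭⟩ := hz'r
  refine ⟨𝔭.asIdeal, 𝔭.isPrime, ?_⟩
  have h1 := congrArg (fun φ : Spec (X.presheaf.stalk z) ⟶ Y => φ 𝔭)
    (Scheme.SpecMap_stalkMap_fromSpecStalk (f := f) (x := z))
  have h2 : Y.fromSpecStalk (f z) (Spec.map (f.stalkMap z) 𝔭) = f (X.fromSpecStalk z 𝔭) := h1
  rw [h𝔭, hfz'] at h2
  have h3 : Spec.map (f.stalkMap z) 𝔭 = q :=
    (Y.fromSpecStalk (f z)).isEmbedding.injective h2
  have h4 := congrArg PrimeSpectrum.asIdeal h3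
  exact h4

/-- `f` open at `z` (with `X`, `Y` locally Noetherian) does not lower the dimension of the local
rings. -/
theorem stalk_dim_le_of_isOpenAt [IsLocallyNoetherian X] [IsLocallyNoetherian Y] (f : X ⟶ Y)
    (z : X) (hopen : EGA43.IsOpenAt f.base z) :
    ringKrullDim (Y.presheaf.stalk (f z)) ≤ ringKrullDim (X.presheaf.stalk z) :=
  ringKrullDim_le_of_specSurj (f.stalkMap z).hom
    (specSurj_stalkMap f z (exists_gen_of_isOpenAt f z hopen))

/-- Translate the hypothesis on the fibre scheme into a statement on points of `X`. -/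
theorem isOpenAt_of_hyp (f : X ⟶ Y) (x : X)
    (h : ∀ z : ↥(f.fiber (f.base x)), f.asFiber x ∈ closure {z} →
      (∀ z' : ↥(f.fiber (f.base x)), z ∈ closure {z'} → z' = z) →
      EGA43.IsOpenAt f.base ((f.fiberι (f.base x)).base z))
    (z₀ : X) (hz : f z₀ = f x) (hzx : z₀ ⤳ x)
    (hmax : ∀ z' : X, f z' = f z₀ → z' ⤳ z₀ → z' = z₀) : EGA43.IsOpenAt f.base z₀ := by
  obtain ⟨z, hz'⟩ := exists_fibre_point f z₀ (f x) hz
  have h1 : f.asFiber x ∈ closure {z} := by
    rw [← specializes_iff_mem_closure,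
      ← (f.fiberι (f x)).isEmbedding.isInducing.specializes_iff, hz', f.fiberι_asFiber]
    exact hzx
  have h2 : ∀ z' : ↥(f.fiber (f.base x)), z ∈ closure {z'} → z' = z := by
    intro z' hz'z
    have h3 : z' ⤳ z := specializes_iff_mem_closure.mpr hz'z
    have h4 : f.fiberι (f x) z' ⤳ z₀ := by
      rw [← hz']
      exact h3.map (f.fiberι (f x)).continuous
    have h5 : f (f.fiberι (f x) z') = f z₀ := by
      have : f.fiberι (f x) z' ∈ Set.range (f.fiberι (f x)) := ⟨z', rfl⟩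
      rw [f.range_fiberι] at this
      exact this.trans hz.symm
    have h6 := hmax _ h5 h4
    apply (f.fiberι (f x)).isEmbedding.injective
    rw [h6, hz']
  have h3 := h z h1 h2
  have h4 : (f.fiberι (f.base x)).base z = z₀ := hz'
  rw [h4] at h3
  exact h3

/-- The general dimension inequality `dim O_{X,x} ≤ dim O_{Y,y} + dim O_{X_y,x}` for locally
Noetherian schemes (after lead's `StalkDimIneq.main`). -/
theorem stalk_dim_le_noeth [IsLocallyNoetherian X] [IsLocallyNoetherian Y] (f : X ⟶ Y) (x : X) :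
    ringKrullDim (X.presheaf.stalk x) ≤
      ringKrullDim (Y.presheaf.stalk (f x)) +
        ringKrullDim ((f.fiber (f x)).presheaf.stalk (f.asFiber x)) := by
  obtain ⟨V, hV, hfxV, -⟩ := Opens.isBasis_iff_nbhd.mp Y.isBasis_affineOpens
    (show f x ∈ (⊤ : Y.Opens) from trivial)
  obtain ⟨U, hU, hxU, e⟩ := Opens.isBasis_iff_nbhd.mp X.isBasis_affineOpens
    (show x ∈ f ⁻¹ᵁ V from hfxV)
  have hU' : IsAffineOpen U := hU
  have hV' : IsAffineOpen V := hV
  have : IsNoetherianRing Γ(Y, V) := IsLocallyNoetherian.component_noetherian ⟨V, hV⟩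
  have : IsNoetherianRing Γ(X, U) := IsLocallyNoetherian.component_noetherian ⟨U, hU⟩
  let _ : Algebra Γ(Y, V) Γ(X, U) := (f.appLE V U e).hom.toAlgebra
  set q := (hU'.primeIdealOf ⟨x, hxU⟩).asIdeal with hq
  set p := (hV'.primeIdealOf ⟨f x, e hxU⟩).asIdeal with hp
  have hlo : q.LiesOver p := ⟨StalkDimIneq.primeIdealOf_map f hU' hV' e ⟨x, hxU⟩⟩
  have h1 := Ideal.height_le_height_add_of_liesOver p q
  have h2 := StalkDimIneq.height_quotient_le_coheight f hU' hV' e x hxU
  have hX : ringKrullDim (X.presheaf.stalk x) = q.height := by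
    letI := TopCat.Presheaf.algebra_section_stalk X.presheaf (⟨x, hxU⟩ : U)
    have := hU'.isLocalization_stalk ⟨x, hxU⟩
    exact IsLocalization.AtPrime.ringKrullDim_eq_height q (X.presheaf.stalk x)
  have hY : ringKrullDim (Y.presheaf.stalk (f x)) = p.height := by
    letI := TopCat.Presheaf.algebra_section_stalk Y.presheaf (⟨f x, e hxU⟩ : V)
    have := hV'.isLocalization_stalk ⟨f x, e hxU⟩
    exact IsLocalization.AtPrime.ringKrullDim_eq_height p (Y.presheaf.stalk (f x))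
  rw [hX, hY, ringKrullDim_stalk_eq_coheight]
  have h3 : q.height ≤ p.height + Order.coheight (f.asFiber x) :=
    le_trans h1 (add_le_add_right h2 _)
  exact_mod_cast h3

/-- A maximal point of the fibre above `x` reached by a chain of length `G f x` (locally
Noetherian source). -/
theorem exists_max_fibre_chain [IsLocallyNoetherian X] (f : X ⟶ Y) (x : X) :
    ∃ z : X, f z = f x ∧ z ⤳ x ∧ (∀ z' : X, f z' = f z → z' ⤳ z → z' = z) ∧
      Order.coheight z + FibreOrder.G f x ≤ Order.coheight x := by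
  have hGle : FibreOrder.G f x ≤ Order.coheight x := by
    unfold FibreOrder.G
    exact Order.coheight_le_coheight_apply_of_strictMono
      (Subtype.val : ↥(f ⁻¹' {f x}) → X) (fun a b hab => hab) ⟨x, rfl⟩
  have hxtop : Order.coheight x ≠ ⊤ := by
    have h1 : ringKrullDim (X.presheaf.stalk x) ≠ ⊤ := ringKrullDim_ne_top
    rw [ringKrullDim_stalk_eq_coheight] at h1
    intro htop
    rw [htop] at h1
    exact h1 rfl
  have hGtop : FibreOrder.G f x ≠ ⊤ := fun htop => hxtop (top_le_iff.mp (htop ▸ hGle))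
  obtain ⟨g, hg⟩ := ENat.ne_top_iff_exists.mp hGtop
  obtain ⟨p, hhead, hlen⟩ := Order.exists_series_of_le_coheight
    (⟨x, rfl⟩ : ↥(f ⁻¹' {f x})) (n := g) (by
      show (g : ℕ∞) ≤ FibreOrder.G f x
      rw [← hg])
  have hz : f (p.last).1 = f x := (p.last).2
  have hzx : (p.last).1 ⤳ x := by
    have h1 : p.head ≤ p.last := LTSeries.head_le_last p
    rw [hhead] at h1
    exact h1
  have hmaxF : IsMax p.last := by
    rw [← Order.coheight_eq_zero]
    have h1 := FibreOrder.coheight_last_add_length_le p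
    rw [hhead, hlen] at h1
    have h2 : Order.coheight (⟨x, rfl⟩ : ↥(f ⁻¹' {f x})) = g := hg.symm
    rw [h2] at h1
    have h4 : Order.coheight p.last ≠ ⊤ := by
      intro htop
      rw [htop] at h1
      simp at h1
    obtain ⟨a, ha⟩ := ENat.ne_top_iff_exists.mp h4
    rw [← ha] at h1 ⊢
    have : a + g ≤ g := by exact_mod_cast h1
    have : a = 0 := by omega
    rw [this]
    rfl
  refine ⟨(p.last).1, hz, hzx, ?_, ?_⟩
  · intro z' hfz' hz'
    have hz'f : f z' = f x := hfz'.trans hz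
    have h1 : p.last ≤ (⟨z', hz'f⟩ : ↥(f ⁻¹' {f x})) := hz'
    have h2 : (⟨z', hz'f⟩ : ↥(f ⁻¹' {f x})) ≤ p.last := hmaxF h1
    have h3 : (p.last).1 ⤳ z' := h2
    exact (hz'.antisymm h3).eq
  · let c : LTSeries X := p.map Subtype.val (fun a b hab => hab)
    have h1 := FibreOrder.coheight_last_add_length_le c
    have h2 : c.head = x := by
      show (p.head).1 = x
      rw [hhead]
    have h3 : c.last = (p.last).1 := rfl
    have h4 : c.length = g := hlen
    rw [h2, h3, h4] at h1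
    rw [← hg]
    exact h1

theorem main2559 [IsLocallyNoetherian X] [IsLocallyNoetherian Y] (f : X ⟶ Y) (x : X)
    (h : ∀ z : ↥(f.fiber (f.base x)), f.asFiber x ∈ closure {z} →
      (∀ z' : ↥(f.fiber (f.base x)), z ∈ closure {z'} → z' = z) →
      EGA43.IsOpenAt f.base ((f.fiberι (f.base x)).base z)) :
    ringKrullDim (X.presheaf.stalk x) =
      ringKrullDim (Y.presheaf.stalk (f.base x)) +
        ringKrullDim ((f.fiber (f.base x)).presheaf.stalk (f.asFiber x)) := by
  apply le_antisymm (stalk_dim_le_noeth f x)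
  obtain ⟨z, hz, hzx, hmax, hchain⟩ := exists_max_fibre_chain f x
  have hopen := isOpenAt_of_hyp f x h z hz hzx hmax
  have h1 := stalk_dim_le_of_isOpenAt f z hopen
  rw [FibreOrder.ringKrullDim_fiber_stalk, ringKrullDim_stalk_eq_coheight,
    ringKrullDim_stalk_eq_coheight]
  rw [ringKrullDim_stalk_eq_coheight, ringKrullDim_stalk_eq_coheight, hz] at h1
  have h2 : Order.coheight (f x) ≤ Order.coheight z := by exact_mod_cast h1
  have h3 : Order.coheight (f x) + FibreOrder.G f x ≤ Order.coheight x :=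
    (add_le_add_left h2 _).trans hchain
  exact_mod_cast h3

end Groth.Agent.Lib.Helper24.OpenAt
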