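import Mathlib
import Groth.Agent.Lib.Helper24.OpenAt.Lift
import Groth.Agent.Lib.Helper24.JacDim.SuppStalk

/-!
# Lifting generizations with equal residue transcendence degree at open fibre-maximal points
(helper24)
-/

set_option autoImplicit false
set_option linter.style.haveILetI false
universe u
open scoped Cardinal
open AlgebraicGeometry CategoryTheory TopologicalSpace Topology
open Groth.Agent.Lib.Helper7 Groth.Agent.Lib.lead Groth.Agent.Lib.Helper18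

namespace Groth.Agent.Lib.Helper24.FibreDim

variable {X Y : Scheme.{u}}

/-- The dimension inequality for a prime `𝔭` of `O_{X,x}` and the corresponding generization
`X.fromSpecStalk x 𝔭` of `x`. -/
theorem stalk_pair_le'' [IsLocallyNoetherian Y] (f : X ⟶ Y) [LocallyOfFiniteType f] (x : X)
    (𝔭 : Ideal (X.presheaf.stalk x)) [𝔭.IsPrime] :
    ∃ ξ : X, ξ = X.fromSpecStalk x ⟨𝔭, inferInstance⟩ ∧ ξ ⤳ x ∧
      (𝔭 ∈ minimalPrimes (X.presheaf.stalk x) → ∀ ξ' : X, ξ' ⤳ ξ → ξ' = ξ) ∧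
      ((∀ η : Y, η ⤳ f ξ → η = f ξ) →
        𝔭.comap (f.stalkMap x).hom ∈ minimalPrimes (Y.presheaf.stalk (f x))) ∧
      ringKrullDim (X.presheaf.stalk x ⧸ 𝔭) + ((tr f x : ℕ) : WithBot ℕ∞) ≤
        ringKrullDim (Y.presheaf.stalk (f x) ⧸ 𝔭.comap (f.stalkMap x).hom) +
          ((tr f ξ : ℕ) : WithBot ℕ∞) := by
  obtain ⟨V, hV, U, hU, e, hxU⟩ := exists_chart f x
  letI : Algebra Γ(Y, V) Γ(X, U) := (f.appLE V U e).hom.toAlgebra
  have halg : algebraMap Γ(Y, V) Γ(X, U) = (f.appLE V U e).hom := rfl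
  haveI : Algebra.FiniteType Γ(Y, V) Γ(X, U) := f.finiteType_appLE hV hU e
  set p : Ideal Γ(Y, V) := (hV.primeIdealOf ⟨f x, e hxU⟩).asIdeal with hp
  set P : Ideal Γ(X, U) := (hU.primeIdealOf ⟨x, hxU⟩).asIdeal with hP
  haveI : P.LiesOver p := ResTrdegBridge.liesOver_primeIdealOf f x hV hU e hxU (e hxU) halg
  haveI : p.IsPrime := (hV.primeIdealOf ⟨f x, e hxU⟩).isPrime
  haveI : P.IsPrime := (hU.primeIdealOf ⟨x, hxU⟩).isPrime
  letI algY := TopCat.Presheaf.algebra_section_stalk Y.presheaf (⟨f x, e hxU⟩ : V)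
  haveI locY : IsLocalization.AtPrime (Y.presheaf.stalk (f x)) p :=
    hV.isLocalization_stalk ⟨f x, e hxU⟩
  letI algX := TopCat.Presheaf.algebra_section_stalk X.presheaf (⟨x, hxU⟩ : U)
  haveI locX : IsLocalization.AtPrime (X.presheaf.stalk x) P :=
    hU.isLocalization_stalk ⟨x, hxU⟩
  set Q : Ideal Γ(X, U) := 𝔭.under Γ(X, U) with hQ
  haveI hQprime : Q.IsPrime := Ideal.IsPrime.under _ 𝔭
  have hQP : Q ≤ P := under_le_of_atPrime P (X.presheaf.stalk x) 𝔭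
  set 𝔮 : Ideal (Y.presheaf.stalk (f x)) := 𝔭.comap (f.stalkMap x).hom with h𝔮
  haveI h𝔮prime : 𝔮.IsPrime := Ideal.comap_isPrime _ 𝔭
  have hsq : ∀ a : Γ(Y, V), (f.stalkMap x).hom (algebraMap Γ(Y, V) (Y.presheaf.stalk (f x)) a) =
      algebraMap Γ(X, U) (X.presheaf.stalk x) (algebraMap Γ(Y, V) Γ(X, U) a) := by
    intro a
    show (f.stalkMap x).hom ((Y.presheaf.germ V (f x) (e hxU)).hom a) =
      (X.presheaf.germ U x hxU).hom ((f.appLE V U e).hom a)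
    rw [Scheme.Hom.germ_stalkMap_apply, Scheme.Hom.appLE, CommRingCat.hom_comp,
      RingHom.comp_apply, X.presheaf.germ_res_apply]
  have h𝔮u : 𝔮.under Γ(Y, V) = Q.under Γ(Y, V) := by
    ext a
    simp only [Ideal.under, Ideal.mem_comap, h𝔮, hQ]
    rw [hsq a]
  obtain ⟨ξ', hξ'⟩ := AffPts.primeIdealOf_surjective hU ⟨Q, hQprime⟩
  obtain ⟨ξ, hξU⟩ := ξ'
  have hQeq : (hU.primeIdealOf ⟨ξ, hξU⟩).asIdeal = Q := congrArg PrimeSpectrum.asIdeal hξ'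
  have hξx : ξ ⤳ x := by
    refine (AffPts.primeIdealOf_le_iff hU ⟨ξ, hξU⟩ ⟨x, hxU⟩).mp ?_
    show (hU.primeIdealOf ⟨ξ, hξU⟩).asIdeal ≤ P
    rw [hQeq]
    exact hQP
  have hQunder : Q.under Γ(Y, V) = (hV.primeIdealOf ⟨f ξ, e hξU⟩).asIdeal := by
    rw [← hQeq]
    exact (ResTrdegBridge.liesOver_primeIdealOf f ξ hV hU e hξU (e hξU) halg).over.symm
  refine ⟨ξ, ?_, hξx, ?_, ?_, ?_⟩
  · rw [JacDim.fromSpecStalk_eq_fromSpec hU x hxU ⟨𝔭, inferInstance⟩]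
    have h1 : Spec.map (X.presheaf.germ U x hxU) ⟨𝔭, inferInstance⟩ =
        hU.primeIdealOf ⟨ξ, hξU⟩ := by
      apply PrimeSpectrum.ext
      rw [hQeq]
      rfl
    rw [h1, hU.fromSpec_primeIdealOf]
  · intro hmin
    have h1 : Q ∈ minimalPrimes Γ(X, U) :=
      (mem_minimalPrimes_localization_iff P.primeCompl (X.presheaf.stalk x) 𝔭).mp hmin
    rw [← hQeq] at h1
    exact (AffPts.forall_specializes_eq_iff hU ⟨ξ, hξU⟩).mpr h1
  · intro hmax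
    have h1 := (AffPts.forall_specializes_eq_iff hV ⟨f ξ, e hξU⟩).mp hmax
    rw [← hQunder, ← h𝔮u] at h1
    exact (mem_minimalPrimes_localization_iff p.primeCompl (Y.presheaf.stalk (f x)) 𝔮).mpr h1
  · have hn := trdeg_chart f hV hU e x hxU halg p hp
    haveI hξover : (hU.primeIdealOf ⟨ξ, hξU⟩).asIdeal.LiesOver (Q.under Γ(Y, V)) := by
      rw [hQunder]
      exact ResTrdegBridge.liesOver_primeIdealOf f ξ hV hU e hξU (e hξU) halg
    haveI : Q.LiesOver (Q.under Γ(Y, V)) := ⟨rfl⟩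
    have hE := trdeg_chart f hV hU e ξ hξU halg (Q.under Γ(Y, V)) hQunder
    rw [trdeg_congr_ideal (Q.under Γ(Y, V)) Q (hU.primeIdealOf ⟨ξ, hξU⟩).asIdeal hQeq] at hE
    haveI : IsNoetherianRing (Y.presheaf.stalk (f x)) := inferInstance
    have key := height_pair_le_local p (Y.presheaf.stalk (f x)) P Q hQP (tr f x) (tr f ξ)
      hn hE
    rw [dim_quot_localization P (X.presheaf.stalk x) 𝔭,
      dim_quot_localization p (Y.presheaf.stalk (f x)) 𝔮, h𝔮u]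
    exact_mod_cast key


end Groth.Agent.Lib.Helper24.FibreDim

namespace Groth.Agent.Lib.Helper24.OpenAt

open Groth.Agent.Lib.Helper24.FibreDim

/-- In a ring of finite dimension, two comparable primes with quotients of the same dimension
are equal. -/
theorem eq_of_le_of_dim_quot_eq {R : Type u} [CommRing R] (𝔮' 𝔮'' : Ideal R) [𝔮'.IsPrime]
    [𝔮''.IsPrime] (hle : 𝔮' ≤ 𝔮'') (hfin : ringKrullDim (R ⧸ 𝔮') ≠ ⊤)
    (h : ringKrullDim (R ⧸ 𝔮'') = ringKrullDim (R ⧸ 𝔮')) : 𝔮'' = 𝔮' := by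
  by_contra hne
  have hlt : 𝔮' < 𝔮'' := lt_of_le_of_ne hle (Ne.symm hne)
  obtain ⟨r, hr𝔮, hr𝔮'⟩ := Set.exists_of_ssubset hlt
  have hne0 : (Ideal.Quotient.mk 𝔮' r) ≠ 0 := by
    rw [Ne, Ideal.Quotient.eq_zero_iff_mem]
    exact hr𝔮'
  have h1 : ringKrullDim (R ⧸ 𝔮'') + 1 ≤ ringKrullDim (R ⧸ 𝔮') := by
    refine ringKrullDim_succ_le_of_surjective (Ideal.Quotient.factor hle)
      (Ideal.Quotient.factor_surjective hle) (mem_nonZeroDivisors_of_ne_zero hne0) ?_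
    rw [Ideal.Quotient.factor_mk, Ideal.Quotient.eq_zero_iff_mem]
    exact hr𝔮
  rw [h] at h1
  have hnb : ringKrullDim (R ⧸ 𝔮') ≠ ⊥ := by
    haveI : Nontrivial (R ⧸ 𝔮') :=
      Ideal.Quotient.nontrivial_iff.mpr (Ideal.IsPrime.ne_top inferInstance)
    exact (lt_of_lt_of_le (WithBot.bot_lt_coe (0 : ℕ∞)) ringKrullDim_nonneg_of_nontrivial).ne'
  obtain ⟨n, hn⟩ : ∃ n : ℕ, ringKrullDim (R ⧸ 𝔮') = ((n : ℕ∞) : WithBot ℕ∞) := by
    cases hR : ringKrullDim (R ⧸ 𝔮') with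
    | bot => exact absurd hR hnb
    | coe a =>
      cases a with
      | top => exact absurd hR hfin
      | coe n => exact ⟨n, rfl⟩
  rw [hn] at h1
  have h4 : ((n : ℕ∞) : WithBot ℕ∞) + 1 = (((n + 1 : ℕ) : ℕ∞) : WithBot ℕ∞) := by
    push_cast; rfl
  rw [h4] at h1
  have h5 : ((n + 1 : ℕ) : ℕ∞) ≤ (n : ℕ∞) := WithBot.coe_le_coe.mp h1
  have h6 : n + 1 ≤ n := by exact_mod_cast h5
  omega

/-- Arithmetic for the core lemma. -/
theorem arith_core (dB dA' dA'' : WithBot ℕ∞) (tz tx : ℕ) (hB : dB ≠ ⊤)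
    (hA'b : dA' ≠ ⊥)
    (h1 : dA' ≤ dB) (h2 : dA'' ≤ dA') (h3 : tx ≤ tz)
    (h4 : dB + ((tz : ℕ) : WithBot ℕ∞) ≤ dA'' + ((tx : ℕ) : WithBot ℕ∞)) :
    tx = tz ∧ dA'' = dA' := by
  have hBb : dB ≠ ⊥ := fun h => hA'b (le_bot_iff.mp (h ▸ h1))
  obtain ⟨n, rfl⟩ : ∃ n : ℕ, dB = ((n : ℕ∞) : WithBot ℕ∞) := by
    cases hR : dB with
    | bot => exact absurd hR hBb
    | coe a =>
      cases a with
      | top => exact absurd hR hB
      | coe n => exact ⟨n, rfl⟩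
  obtain ⟨m, rfl⟩ : ∃ m : ℕ, dA' = ((m : ℕ∞) : WithBot ℕ∞) := by
    cases hR : dA' with
    | bot => exact absurd hR hA'b
    | coe a =>
      cases a with
      | top =>
        exfalso
        rw [hR] at h1
        have h' : (⊤ : ℕ∞) ≤ (n : ℕ∞) := WithBot.coe_le_coe.mp h1
        exact absurd (top_le_iff.mp h') (ENat.natCast_ne_top n)
      | coe m => exact ⟨m, rfl⟩
  have h1' : m ≤ n := by
    have : ((m : ℕ∞) : WithBot ℕ∞) ≤ ((n : ℕ∞) : WithBot ℕ∞) := h1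
    exact_mod_cast this
  have e1 : (((n : ℕ∞) : WithBot ℕ∞) + ((tz : ℕ) : WithBot ℕ∞)) =
      (((n + tz : ℕ) : ℕ∞) : WithBot ℕ∞) := by push_cast; rfl
  cases dA'' with
  | bot =>
    exfalso
    rw [WithBot.bot_add, e1] at h4
    exact absurd (le_bot_iff.mp h4) WithBot.coe_ne_bot
  | coe a =>
    cases a with
    | top =>
      exfalso
      have h' : (⊤ : ℕ∞) ≤ (m : ℕ∞) := WithBot.coe_le_coe.mp h2
      exact absurd (top_le_iff.mp h') (ENat.natCast_ne_top m)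
    | coe k =>
      have h2' : k ≤ m := by
        have : ((k : ℕ∞) : WithBot ℕ∞) ≤ ((m : ℕ∞) : WithBot ℕ∞) := h2
        exact_mod_cast this
      have e2 : (((k : ℕ∞) : WithBot ℕ∞) + ((tx : ℕ) : WithBot ℕ∞)) =
          (((k + tx : ℕ) : ℕ∞) : WithBot ℕ∞) := by push_cast; rfl
      have h4' : (((n : ℕ∞) : WithBot ℕ∞) + ((tz : ℕ) : WithBot ℕ∞)) ≤
          (((k : ℕ∞) : WithBot ℕ∞) + ((tx : ℕ) : WithBot ℕ∞)) := h4
      rw [e1, e2] at h4'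
      have h4'' : n + tz ≤ k + tx := by exact_mod_cast h4'
      refine ⟨by omega, ?_⟩
      have : k = m := by omega
      rw [this]

variable {X Y : Scheme.{u}}

/-- **Core lemma.** If `f` is open at a maximal point `ζ` of its fibre, then every generization
`y'` of `f ζ` is the image of a generization `ξ'` of `ζ` with the same residue transcendence
degree. -/
theorem exists_gen_tr_eq [IsLocallyNoetherian Y] (f : X ⟶ Y) [LocallyOfFiniteType f] (ζ : X)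
    (hmax : ∀ z' : X, f z' = f ζ → z' ⤳ ζ → z' = ζ)
    (hopen : EGA43.IsOpenAt f.base ζ) (y' : Y) (hy' : y' ⤳ f ζ) :
    ∃ ξ' : X, ξ' ⤳ ζ ∧ f ξ' = y' ∧ tr f ξ' = tr f ζ := by
  haveI : IsLocallyNoetherian X := LocallyOfFiniteType.isLocallyNoetherian f
  have hsurj : SpecSurj (f.stalkMap ζ).hom :=
    specSurj_stalkMap f ζ (exists_gen_of_isOpenAt f ζ hopen)
  -- the prime of `y'`
  have hy'r : y' ∈ Set.range (Y.fromSpecStalk (f ζ)) := by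
    rw [Scheme.range_fromSpecStalk]
    exact hy'
  obtain ⟨q', hq'⟩ := hy'r
  set 𝔮' : Ideal (Y.presheaf.stalk (f ζ)) := q'.asIdeal with h𝔮'
  haveI : 𝔮'.IsPrime := q'.isPrime
  set φ := (f.stalkMap ζ).hom with hφ
  have hsurj₁ := hsurj.quotient 𝔮'
  have h𝔮'B : 𝔮'.map φ ≠ ⊤ := by
    have h1 : 𝔮'.map φ ≤ IsLocalRing.maximalIdeal (X.presheaf.stalk ζ) := by
      rw [Ideal.map_le_iff_le_comap, hsurj.comap_maximalIdeal]
      exact IsLocalRing.le_maximalIdeal (Ideal.IsPrime.ne_top inferInstance)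
    exact fun htop => (IsLocalRing.maximalIdeal.isMaximal _).ne_top (top_le_iff.mp (htop ▸ h1))
  haveI : Nontrivial (X.presheaf.stalk ζ ⧸ 𝔮'.map φ) := Ideal.Quotient.nontrivial_iff.mpr h𝔮'B
  haveI : IsLocalRing (Y.presheaf.stalk (f ζ) ⧸ 𝔮') :=
    .of_surjective' _ Ideal.Quotient.mk_surjective
  haveI : IsLocalRing (X.presheaf.stalk ζ ⧸ 𝔮'.map φ) :=
    .of_surjective' _ Ideal.Quotient.mk_surjective
  have hdim1 := ringKrullDim_le_of_specSurj _ hsurj₁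
  obtain ⟨𝔭₁, h𝔭₁, hdim𝔭₁⟩ := exists_minimalPrime_dim_eq (X.presheaf.stalk ζ ⧸ 𝔮'.map φ)
  haveI : 𝔭₁.IsPrime := h𝔭₁.1.1
  set 𝔭 : Ideal (X.presheaf.stalk ζ) := 𝔭₁.comap (Ideal.Quotient.mk (𝔮'.map φ)) with h𝔭
  haveI h𝔭prime : 𝔭.IsPrime := Ideal.comap_isPrime _ 𝔭₁
  have hI𝔭 : 𝔮'.map φ ≤ 𝔭 := by
    intro b hb
    show Ideal.Quotient.mk (𝔮'.map φ) b ∈ 𝔭₁
    rw [Ideal.Quotient.eq_zero_iff_mem.mpr hb]
    exact zero_mem _
  have h𝔭map : 𝔭.map (Ideal.Quotient.mk (𝔮'.map φ)) = 𝔭₁ :=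
    Ideal.map_comap_of_surjective _ Ideal.Quotient.mk_surjective 𝔭₁
  have hdim𝔭 : ringKrullDim (X.presheaf.stalk ζ ⧸ 𝔭) =
      ringKrullDim (X.presheaf.stalk ζ ⧸ 𝔮'.map φ) := by
    rw [← hdim𝔭₁, ← h𝔭map]
    exact (ringKrullDim_eq_of_ringEquiv (DoubleQuot.quotQuotEquivQuotOfLE hI𝔭)).symm
  obtain ⟨ξ', hξ'def, hξ'ζ, -, -, hineq⟩ := stalk_pair_le'' f ζ 𝔭
  set 𝔮'' : Ideal (Y.presheaf.stalk (f ζ)) := 𝔭.comap φ with h𝔮''
  haveI : 𝔮''.IsPrime := Ideal.comap_isPrime _ 𝔭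
  have hle : 𝔮' ≤ 𝔮'' := by
    rw [h𝔮'', ← Ideal.map_le_iff_le_comap]
    exact hI𝔭
  have hq : ringKrullDim (Y.presheaf.stalk (f ζ) ⧸ 𝔮'') ≤
      ringKrullDim (Y.presheaf.stalk (f ζ) ⧸ 𝔮') :=
    ringKrullDim_le_of_surjective (Ideal.Quotient.factor hle)
      (Ideal.Quotient.factor_surjective hle)
  -- Chevalley
  have hchev : tr f ξ' ≤ tr f ζ := by
    have h1 := fibreDimAt_mono f hξ'ζ
    rw [fibreDimAt_of_max f ζ hmax] at h1
    have h2 := tr_le_fibreDimAt f (specializes_refl ξ') rfl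
    have h3 := h2.trans h1
    exact_mod_cast h3
  rw [hdim𝔭] at hineq
  have hA'b : ringKrullDim (Y.presheaf.stalk (f ζ) ⧸ 𝔮') ≠ ⊥ := ringKrullDim_ne_bot
  obtain ⟨htr, hdimeq⟩ := arith_core _ _ _ (tr f ζ) (tr f ξ') ringKrullDim_ne_top hA'b hdim1 hq
    hchev hineq
  have h𝔮eq : 𝔮'' = 𝔮' := eq_of_le_of_dim_quot_eq 𝔮' 𝔮'' hle ringKrullDim_ne_top hdimeq
  refine ⟨ξ', hξ'ζ, ?_, htr⟩
  -- `f ξ' = y'`
  have h1 := congrArg (fun ψ : Spec (X.presheaf.stalk ζ) ⟶ Y => ψ ⟨𝔭, h𝔭prime⟩)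
    (Scheme.SpecMap_stalkMap_fromSpecStalk (f := f) (x := ζ))
  have h2 : Y.fromSpecStalk (f ζ) (Spec.map (f.stalkMap ζ) ⟨𝔭, h𝔭prime⟩) =
      f (X.fromSpecStalk ζ ⟨𝔭, h𝔭prime⟩) := h1
  have h3 : Spec.map (f.stalkMap ζ) ⟨𝔭, h𝔭prime⟩ = q' := by
    apply PrimeSpectrum.ext
    show 𝔭.comap φ = q'.asIdeal
    exact h𝔮eq
  rw [hξ'def, ← h2, h3, hq']

end Groth.Agent.Lib.Helper24.OpenAt
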