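import Mathlib
import Groth.Agent.Lib.Helper24.OpenAt.Core
import Groth.Agent.Lib.Helper24.FibreDim.Main3456

/-!
# Components of fibres at whose generic point the morphism is open (helper24)
-/

set_option autoImplicit false
set_option linter.style.haveILetI false
universe u
open scoped Cardinal
open AlgebraicGeometry CategoryTheory TopologicalSpace Topology
open Groth.Agent.Lib.Helper7 Groth.Agent.Lib.lead Groth.Agent.Lib.Helper18
open Groth.Agent.Lib.Helper24.FibreDim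

namespace Groth.Agent.Lib.Helper24.OpenAt

/-- A set between an irreducible set and its closure is irreducible. -/
theorem isIrreducible_of_subset_closure {T : Type*} [TopologicalSpace T] {s t : Set T}
    (hs : IsIrreducible s) (hst : s ⊆ t) (hts : t ⊆ closure s) : IsIrreducible t := by
  refine ⟨hs.nonempty.mono hst, ?_⟩
  intro u v hu hv ⟨a, hat, hau⟩ ⟨b, hbt, hbv⟩
  obtain ⟨a', ha'u, ha's⟩ := mem_closure_iff.mp (hts hat) u hu hau
  obtain ⟨b', hb'v, hb's⟩ := mem_closure_iff.mp (hts hbt) v hv hbv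
  obtain ⟨c, hcs, hcuv⟩ := hs.2 u v hu hv ⟨a', ha's, ha'u⟩ ⟨b', hb's, hb'v⟩
  exact ⟨c, hst hcs, hcuv⟩

variable {X Y : Scheme.{u}}

/-- A maximal irreducible subset of a fibre has a generic point, which is a maximal point of the
fibre. -/
theorem exists_generic_of_fibre_component (f : X ⟶ Y) (y : Y) (Z : Set X)
    (hZy : Z ⊆ f ⁻¹' {y}) (hZ : IsIrreducible Z)
    (hZmax : ∀ Z' : Set X, IsIrreducible Z' → Z' ⊆ f ⁻¹' {y} → Z ⊆ Z' → Z' = Z) :
    ∃ ζ₀ : X, ζ₀ ∈ Z ∧ f ζ₀ = y ∧ Z = closure {ζ₀} ∩ f ⁻¹' {y} ∧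
      (∀ z' : X, f z' = f ζ₀ → z' ⤳ ζ₀ → z' = ζ₀) ∧
      (∀ ζ ∈ Z, Z ⊆ closure {ζ} → ζ = ζ₀) := by
  obtain ⟨ζ₀, hζ₀⟩ := QuasiSober.sober hZ.closure isClosed_closure
  have hcl : closure ({ζ₀} : Set X) = closure Z := hζ₀.def
  obtain ⟨z, hz⟩ := hZ.nonempty
  have hfz : f z = y := hZy hz
  have hζ₀z : ζ₀ ⤳ z := by
    rw [specializes_iff_mem_closure, hcl]
    exact subset_closure hz
  have hfζ₀ : f ζ₀ = y := by
    have h1 : f ζ₀ ⤳ y := hfz ▸ hζ₀z.map f.continuous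
    have h2 : y ⤳ f ζ₀ := by
      rw [specializes_iff_mem_closure]
      have h3 : closure Z ⊆ f ⁻¹' closure ({y} : Set Y) := by
        apply closure_minimal _ (isClosed_closure.preimage f.continuous)
        intro w hw
        show f w ∈ closure ({y} : Set Y)
        rw [hZy hw]
        exact subset_closure rfl
      exact h3 (hcl ▸ subset_closure rfl)
    exact (h1.antisymm h2).eq
  have hZ'irr : IsIrreducible (closure Z ∩ f ⁻¹' {y}) :=
    isIrreducible_of_subset_closure hZ (fun w hw => ⟨subset_closure hw, hZy hw⟩)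
      Set.inter_subset_left
  have hZeq : closure Z ∩ f ⁻¹' {y} = Z :=
    hZmax _ hZ'irr Set.inter_subset_right (fun w hw => ⟨subset_closure hw, hZy hw⟩)
  have hζ₀Z : ζ₀ ∈ Z := by
    rw [← hZeq]
    exact ⟨hcl ▸ subset_closure rfl, hfζ₀⟩
  refine ⟨ζ₀, hζ₀Z, hfζ₀, by rw [hcl, hZeq], ?_, ?_⟩
  · intro z' hfz' hz'ζ₀
    have hirr : IsIrreducible (closure ({z'} : Set X) ∩ f ⁻¹' {y}) :=
      isIrreducible_of_subset_closure isIrreducible_singleton
        (fun w hw => by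
          rw [Set.mem_singleton_iff] at hw
          rw [hw]
          exact ⟨subset_closure rfl, hfz'.trans hfζ₀⟩)
        Set.inter_subset_left
    have hsub : Z ⊆ closure ({z'} : Set X) ∩ f ⁻¹' {y} := by
      intro w hw
      refine ⟨?_, hZy hw⟩
      have h1 : w ∈ closure ({ζ₀} : Set X) := hcl ▸ subset_closure hw
      exact hz'ζ₀.closure_subset h1
    have h2 := hZmax _ hirr Set.inter_subset_right hsub
    have h3 : z' ∈ Z := by
      rw [← h2]
      exact ⟨subset_closure rfl, hfz'.trans hfζ₀⟩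
    have h4 : ζ₀ ⤳ z' := by
      rw [specializes_iff_mem_closure, hcl]
      exact subset_closure h3
    exact (hz'ζ₀.antisymm h4).eq
  · intro ζ hζZ hZζ
    have h1 : ζ ⤳ ζ₀ := specializes_iff_mem_closure.mpr (hZζ hζ₀Z)
    have h2 : ζ₀ ⤳ ζ := by
      rw [specializes_iff_mem_closure, hcl]
      exact subset_closure hζZ
    exact (h1.antisymm h2).eq

/-- The generization provided by the core lemma over a maximal point of `Y` is a maximal point of
`X`. -/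
theorem isMax_of_tr_eq (f : X ⟶ Y) [LocallyOfFiniteType f] (ζ ξ' : X)
    (hmax : ∀ z' : X, f z' = f ζ → z' ⤳ ζ → z' = ζ) (hξ'ζ : ξ' ⤳ ζ) (htr : tr f ξ' = tr f ζ)
    (hηmax : ∀ η' : Y, η' ⤳ f ξ' → η' = f ξ') : ∀ ξ₀ : X, ξ₀ ⤳ ξ' → ξ₀ = ξ' := by
  intro ξ₀ hξ₀
  by_contra hne
  have hf : f ξ' = f ξ₀ := (hηmax _ (hξ₀.map f.continuous)).symm
  have hlt : ξ' < ξ₀ := by
    rw [lt_iff_le_not_ge]
    refine ⟨hξ₀, fun hge => hne ?_⟩
    have hge' : ξ' ⤳ ξ₀ := hge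
    exact (hξ₀.antisymm hge').eq
  have h1 := tr_lt_of_lt f hlt hf
  have h2 : tr f ξ₀ ≤ tr f ζ := by
    have h3 := fibreDimAt_mono f (hξ₀.trans hξ'ζ)
    rw [fibreDimAt_of_max f ζ hmax] at h3
    have h4 := tr_le_fibreDimAt f (specializes_refl ξ₀) rfl
    have h5 := h4.trans h3
    exact_mod_cast h5
  omega

theorem main4919 [IrreducibleSpace Y] [IsLocallyNoetherian Y] (f : X ⟶ Y)
    [LocallyOfFiniteType f] (y : Y) (Z : Set X)
    (hZy : Z ⊆ f.base ⁻¹' {y}) (hZ : IsIrreducible Z)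
    (hZmax : ∀ Z' : Set X, IsIrreducible Z' → Z' ⊆ f.base ⁻¹' {y} → Z ⊆ Z' → Z' = Z)
    (hopen : ∀ ζ ∈ Z, Z ⊆ closure {ζ} → EGA43.IsOpenAt f.base ζ) :
    ∃ X' ∈ irreducibleComponents (X : Type u), Z ⊆ X' ∧ Dense (f.base '' X') ∧
      (∀ ζ ∈ Z, Z ⊆ closure {ζ} → ∀ hζ : ζ ∈ X' ∩ f.base ⁻¹' {y},
        FlatMor.localDim ↥(X' ∩ f.base ⁻¹' {y}) ⟨ζ, hζ⟩ = topologicalKrullDim ↥Z) ∧
      topologicalKrullDim ↥Z = topologicalKrullDim ↥(X' ∩ f.base ⁻¹' {genericPoint Y}) := by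
  obtain ⟨ζ₀, hζ₀Z, hfζ₀, hZeq, hζ₀max, huniq⟩ :=
    exists_generic_of_fibre_component f y Z hZy hZ hZmax
  subst hfζ₀
  have hZsub : Z ⊆ closure ({ζ₀} : Set X) := hZeq ▸ Set.inter_subset_left
  have hop := hopen ζ₀ hζ₀Z hZsub
  obtain ⟨ξ', hξ'ζ₀, hfξ', htr⟩ := exists_gen_tr_eq f ζ₀ hζ₀max hop (genericPoint Y)
    (_root_.genericPoint_specializes _)
  have hηmax : ∀ η' : Y, η' ⤳ f ξ' → η' = f ξ' := by
    intro η' hη'
    rw [hfξ'] at hη' ⊢
    exact (hη'.antisymm (_root_.genericPoint_specializes η')).eq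
  have hξ'max := isMax_of_tr_eq f ζ₀ ξ' hζ₀max hξ'ζ₀ htr hηmax
  have hdimZ : topologicalKrullDim ↥Z = ((tr f ζ₀ : ℕ) : WithBot ℕ∞) := by
    rw [hZeq]
    exact dim_closure_inter_fibre f ζ₀
  refine ⟨closure {ξ'}, (AffPts.closure_mem_irreducibleComponents_iff ξ').mpr hξ'max, ?_, ?_,
    ?_, ?_⟩
  · exact hZsub.trans hξ'ζ₀.closure_subset
  · rw [dense_iff_closure_eq]
    apply Set.eq_univ_of_univ_subset
    rw [← (genericPoint_spec Y).def]
    apply closure_mono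
    rw [Set.singleton_subset_iff]
    exact ⟨ξ', subset_closure rfl, hfξ'⟩
  · intro ζ hζZ hZζ hζ
    obtain rfl : ζ = ζ₀ := huniq ζ hζZ hZζ
    obtain ⟨k1, -, k3⟩ := closure_fibre_facts f ζ ξ' hξ'ζ₀ hζ
    have h1 := k1 ζ rfl (specializes_refl ζ) hξ'ζ₀
    rw [fibreDimAt_of_max f ζ hζ₀max] at k3
    rw [hdimZ]
    exact le_antisymm k3 h1
  · rw [hdimZ, ← hfξ', dim_closure_inter_fibre f ξ', htr]

end Groth.Agent.Lib.Helper24.OpenAt
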