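import Mathlib
import Groth.Agent.Lib.Helper24.OpenAt.Main4919

/-!
# Dimensions of fibre components when the morphism is open along a fibre (helper24)
-/

set_option autoImplicit false
set_option linter.style.haveILetI false
universe u
open scoped Cardinal
open AlgebraicGeometry CategoryTheory TopologicalSpace Topology
open Groth.Agent.Lib.Helper7 Groth.Agent.Lib.lead Groth.Agent.Lib.Helper18
open Groth.Agent.Lib.Helper24.FibreDim

namespace Groth.Agent.Lib.Helper24.OpenAt

/-- The dimension of a quasi-sober space is bounded by the dimensions of its irreducible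
components. -/
theorem dim_le_of_components (T : Type*) [TopologicalSpace T] [QuasiSober T] (n : WithBot ℕ∞)
    (h : ∀ W ∈ irreducibleComponents T, topologicalKrullDim ↥W ≤ n) :
    topologicalKrullDim T ≤ n := by
  apply LocalDim.dim_le_of_specializing_chains
  intro m c hc
  obtain ⟨W, hW, hsub⟩ := exists_mem_irreducibleComponents_subset_of_isIrreducible
    (closure ({c 0} : Set T)) isIrreducible_singleton.closure
  have hmem : ∀ i, c i ∈ W := by
    intro i
    apply hsub
    have h1 : c 0 ⤳ c i := JacDim.SChain.head_specializes hc i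
    exact specializes_iff_mem_closure.mp h1
  exact (JacDim.le_dim_of_chain_mem W c hc hmem).trans (h W hW)

variable {X Y : Scheme.{u}}

/-- A maximal point of the fibre scheme gives a fibre-maximal point of `X` and conversely. -/
theorem fiberι_max_of_max (f : X ⟶ Y) (y : Y) (ζF : f.fiber y)
    (hmax : ∀ w : f.fiber y, w ⤳ ζF → w = ζF) :
    ∀ z' : X, f z' = f (f.fiberι y ζF) → z' ⤳ f.fiberι y ζF → z' = f.fiberι y ζF := by
  intro z' hfz' hz'
  have hfζ : f (f.fiberι y ζF) = y := by
    have : f.fiberι y ζF ∈ Set.range (f.fiberι y) := ⟨ζF, rfl⟩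
    rw [f.range_fiberι] at this
    exact this
  obtain ⟨w, hw⟩ := exists_fibre_point f z' y (hfz'.trans hfζ)
  have h1 : w ⤳ ζF := by
    rw [← (f.fiberι y).isEmbedding.isInducing.specializes_iff, hw]
    exact hz'
  rw [← hw, hmax w h1]

theorem max_of_fiberι_max (f : X ⟶ Y) (y : Y) (ξF : f.fiber y)
    (hmax : ∀ z' : X, z' ⤳ f.fiberι y ξF → z' = f.fiberι y ξF) :
    ∀ w : f.fiber y, w ⤳ ξF → w = ξF := by
  intro w hw
  apply (f.fiberι y).isEmbedding.injective
  exact hmax _ (hw.map (f.fiberι y).continuous)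

theorem main4920 [IrreducibleSpace Y] [IsLocallyNoetherian Y]
    (f : X ⟶ Y) [LocallyOfFiniteType f] (y : Y)
    (h : ∀ x : X, f.base x = y → EGA43.IsOpenAt f.base x) :
    ((fun Z : Set ↥(f.fiber y) => topologicalKrullDim ↥Z) '' irreducibleComponents ↥(f.fiber y)) ⊆
      ((fun Z : Set ↥(f.fiber (genericPoint Y)) => topologicalKrullDim ↥Z) ''
        irreducibleComponents ↥(f.fiber (genericPoint Y))) ∧
      topologicalKrullDim ↥(f.fiber y) ≤ topologicalKrullDim ↥(f.fiber (genericPoint Y)) := by
  have part1 : ((fun Z : Set ↥(f.fiber y) => topologicalKrullDim ↥Z) ''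
      irreducibleComponents ↥(f.fiber y)) ⊆
      ((fun Z : Set ↥(f.fiber (genericPoint Y)) => topologicalKrullDim ↥Z) ''
        irreducibleComponents ↥(f.fiber (genericPoint Y))) := by
    rintro d ⟨ZF, hZF, rfl⟩
    obtain ⟨ζF, hζF⟩ := QuasiSober.sober hZF.1 (isClosed_of_mem_irreducibleComponents ZF hZF)
    obtain rfl : closure ({ζF} : Set (f.fiber y)) = ZF := hζF.def
    have hζFmax : ∀ w : f.fiber y, w ⤳ ζF → w = ζF :=
      (AffPts.closure_mem_irreducibleComponents_iff ζF).mp hZF
    set ζ : X := f.fiberι y ζF with hζ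
    have hfζ : f ζ = y := by
      have : ζ ∈ Set.range (f.fiberι y) := ⟨ζF, rfl⟩
      rw [f.range_fiberι] at this
      exact this
    have hζmax := fiberι_max_of_max f y ζF hζFmax
    have hdimZ := dim_closure_fibre_point f y ζ hfζ ζF rfl
    have hop := h ζ hfζ
    obtain ⟨ξ', hξ'ζ, hfξ', htr⟩ := exists_gen_tr_eq f ζ hζmax hop (genericPoint Y)
      (_root_.genericPoint_specializes _)
    have hηmax : ∀ η' : Y, η' ⤳ f ξ' → η' = f ξ' := by
      intro η' hη'
      rw [hfξ'] at hη' ⊢
      exact (hη'.antisymm (_root_.genericPoint_specializes η')).eq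
    have hξ'max := isMax_of_tr_eq f ζ ξ' hζmax hξ'ζ htr hηmax
    obtain ⟨ξF, hξF⟩ := exists_fibre_point f ξ' (genericPoint Y) hfξ'
    have hξFmax : ∀ w : f.fiber (genericPoint Y), w ⤳ ξF → w = ξF :=
      max_of_fiberι_max f (genericPoint Y) ξF (by rw [hξF]; exact hξ'max)
    refine ⟨closure {ξF}, (AffPts.closure_mem_irreducibleComponents_iff ξF).mpr hξFmax, ?_⟩
    show topologicalKrullDim ↥(closure ({ξF} : Set (f.fiber (genericPoint Y)))) =
      topologicalKrullDim ↥(closure ({ζF} : Set (f.fiber y)))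
    rw [hdimZ, dim_closure_fibre_point f (genericPoint Y) ξ' hfξ' ξF hξF, htr]
  refine ⟨part1, ?_⟩
  apply dim_le_of_components
  intro W hW
  obtain ⟨W', hW', hdim⟩ := part1 ⟨W, hW, rfl⟩
  have hdim' : topologicalKrullDim ↥W' = topologicalKrullDim ↥W := hdim
  rw [← hdim']
  exact topologicalKrullDim_subspace_le _ W'

end Groth.Agent.Lib.Helper24.OpenAt
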