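import Mathlib
import Groth.Agent.Lib.Helper24.OpenAt.Main4920
import Groth.Agent.Lib.Helper21.TopDim

/-!
# Proper morphisms open along a fibre: the fibre dimension is locally constant (helper24)
-/

set_option autoImplicit false
set_option linter.style.haveILetI false
universe u
open scoped Cardinal
open AlgebraicGeometry CategoryTheory TopologicalSpace Topology
open Groth.Agent.Lib.Helper7 Groth.Agent.Lib.lead Groth.Agent.Lib.Helper18
open Groth.Agent.Lib.Helper24.FibreDim

namespace Groth.Agent.Lib.Helper24.OpenAt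

variable {X Y : Scheme.{u}}

/-- The locus where the local fibre dimension is at most `n : WithBot ℕ∞` is open. -/
theorem isOpen_fibreDimAt_le' (f : X ⟶ Y) [LocallyOfFiniteType f] (n : WithBot ℕ∞) :
    IsOpen {x : X | FlatMor.fibreDimAt f x ≤ n} := by
  cases n with
  | bot =>
    have : {x : X | FlatMor.fibreDimAt f x ≤ ⊥} = ∅ := by
      ext x
      simp only [Set.mem_setOf_eq, Set.mem_empty_iff_false, iff_false, le_bot_iff]
      rw [fibreDimAt_eq_tr_add_G]
      exact WithBot.coe_ne_bot
    rw [this]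
    exact isOpen_empty
  | coe a =>
    cases a with
    | top =>
      have : {x : X | FlatMor.fibreDimAt f x ≤ ((⊤ : ℕ∞) : WithBot ℕ∞)} = Set.univ := by
        ext x
        simp only [Set.mem_setOf_eq, Set.mem_univ, iff_true]
        exact le_top
      rw [this]
      exact isOpen_univ
    | coe n => exact Chev.isOpen_fibreDimAt_le f n

/-- The dimension of a fibre is bounded by `n` if the local fibre dimension is at most `n` at
every point of the fibre. -/
theorem dim_fiber_le (f : X ⟶ Y) [LocallyOfFiniteType f] (z : Y) (n : WithBot ℕ∞)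
    (h : ∀ x : X, f x = z → FlatMor.fibreDimAt f x ≤ n) :
    topologicalKrullDim ↥(f.fiber z) ≤ n := by
  apply dim_le_of_components
  intro W hW
  obtain ⟨ζF, hζF⟩ := QuasiSober.sober hW.1 (isClosed_of_mem_irreducibleComponents W hW)
  obtain rfl : closure ({ζF} : Set (f.fiber z)) = W := hζF.def
  have hζFmax : ∀ w : f.fiber z, w ⤳ ζF → w = ζF :=
    (AffPts.closure_mem_irreducibleComponents_iff ζF).mp hW
  have hfζ : f (f.fiberι z ζF) = z := by
    have : f.fiberι z ζF ∈ Set.range (f.fiberι z) := ⟨ζF, rfl⟩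
    rw [f.range_fiberι] at this
    exact this
  have hζmax := fiberι_max_of_max f z ζF hζFmax
  rw [dim_closure_fibre_point f z _ hfζ ζF rfl, ← fibreDimAt_of_fibre_max f _ hζmax]
  exact h _ hfζ

theorem main4921 [IsLocallyNoetherian Y] (f : X ⟶ Y) [IsProper f] (y : Y)
    (h : ∀ x : X, f.base x = y → EGA43.IsOpenAt f.base x) :
    ∃ V ∈ nhds y, ∀ z ∈ V,
      topologicalKrullDim ↥(f.fiber z) = topologicalKrullDim ↥(f.fiber y) := by
  set n := topologicalKrullDim ↥(f.fiber y) with hn
  -- upper bound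
  set O : Set X := {x : X | FlatMor.fibreDimAt f x ≤ n} with hO
  have hOopen : IsOpen O := isOpen_fibreDimAt_le' f n
  have hfib : ∀ x : X, f x = y → x ∈ O := by
    intro x hx
    subst hx
    exact Groth.Agent.Lib.Helper21.TopDim.localDim_le _
  have hC : IsClosed (f '' Oᶜ) := f.isClosedMap _ hOopen.isClosed_compl
  have hyC : y ∉ f '' Oᶜ := by
    rintro ⟨x, hxO, hx⟩
    exact hxO (hfib x hx)
  -- lower bound neighbourhood
  obtain ⟨U0, hU0open, hyU0, hU0⟩ := JacDim.exists_nhd (X := Y) Set.univ isClosed_univ y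
  refine ⟨(f '' Oᶜ)ᶜ ∩ U0, Filter.inter_mem (hC.isOpen_compl.mem_nhds hyC)
    (hU0open.mem_nhds hyU0), ?_⟩
  rintro z ⟨hzC, hzU0⟩
  apply le_antisymm
  · apply dim_fiber_le
    intro x hx
    by_contra hxO
    exact hzC ⟨x, hxO, hx⟩
  · obtain ⟨μ, -, hμz, hμy⟩ := hU0 z ⟨hzU0, trivial⟩
    rw [hn]
    apply dim_le_of_components
    intro W hW
    obtain ⟨ζF, hζF⟩ := QuasiSober.sober hW.1 (isClosed_of_mem_irreducibleComponents W hW)
    obtain rfl : closure ({ζF} : Set (f.fiber y)) = W := hζF.def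
    have hζFmax : ∀ w : f.fiber y, w ⤳ ζF → w = ζF :=
      (AffPts.closure_mem_irreducibleComponents_iff ζF).mp hW
    set ζ : X := f.fiberι y ζF with hζ
    have hfζ : f ζ = y := by
      have : ζ ∈ Set.range (f.fiberι y) := ⟨ζF, rfl⟩
      rw [f.range_fiberι] at this
      exact this
    have hζmax := fiberι_max_of_max f y ζF hζFmax
    rw [dim_closure_fibre_point f y ζ hfζ ζF rfl]
    obtain ⟨ξ', hξ'ζ, hfξ', htr⟩ := exists_gen_tr_eq f ζ hζmax (h ζ hfζ) μ (hfζ ▸ hμy)
    -- `z` lies in the image of the closure of `ξ'`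
    have hcl : IsClosed (f '' closure ({ξ'} : Set X)) := f.isClosedMap _ isClosed_closure
    have hμmem : μ ∈ f '' closure ({ξ'} : Set X) := ⟨ξ', subset_closure rfl, hfξ'⟩
    have hzmem : z ∈ f '' closure ({ξ'} : Set X) := hμz.mem_closed hcl hμmem
    obtain ⟨w, hwcl, hfw⟩ := hzmem
    have hξ'w : ξ' ⤳ w := specializes_iff_mem_closure.mpr hwcl
    have h1 := fibreDimAt_mono f hξ'w
    have h2 := tr_le_fibreDimAt f (specializes_refl ξ') rfl
    have h3 : FlatMor.fibreDimAt f w ≤ topologicalKrullDim ↥(f.fiber z) := by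
      subst hfw
      exact Groth.Agent.Lib.Helper21.TopDim.localDim_le _
    rw [← htr]
    exact (h2.trans h1).trans h3

end Groth.Agent.Lib.Helper24.OpenAt
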