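import Mathlib
import Groth.Agent.Lib.Helper24.OpenAt.Lift

/-!
# Open at the maximal points of the fibre ⟹ equidimensional (irreducible source) (helper24)
-/

set_option autoImplicit false
set_option linter.style.haveILetI false
universe u
open scoped Cardinal
open AlgebraicGeometry CategoryTheory TopologicalSpace Topology
open Groth.Agent.Lib.Helper7 Groth.Agent.Lib.lead Groth.Agent.Lib.Helper18
open Groth.Agent.Lib.Helper24.FibreDim

namespace Groth.Agent.Lib.Helper24.OpenAt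

variable {X Y : Scheme.{u}}

/-- Arithmetic: cancel finite dimensions. -/
theorem arith4917 (dX dY : WithBot ℕ∞) (tz e : ℕ) (hX : dX ≠ ⊤) (hXb : dX ≠ ⊥)
    (h1 : dY ≤ dX) (h2 : dX + ((tz : ℕ) : WithBot ℕ∞) ≤ dY + ((e : ℕ) : WithBot ℕ∞)) :
    tz ≤ e := by
  obtain ⟨n, rfl⟩ : ∃ n : ℕ, dX = ((n : ℕ∞) : WithBot ℕ∞) := by
    cases hR : dX with
    | bot => exact absurd hR hXb
    | coe a =>
      cases a with
      | top => exact absurd hR hX
      | coe n => exact ⟨n, rfl⟩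
  cases dY with
  | bot =>
    exfalso
    rw [WithBot.bot_add] at h2
    have e1 : (((n : ℕ∞) : WithBot ℕ∞) + ((tz : ℕ) : WithBot ℕ∞)) =
        (((n + tz : ℕ) : ℕ∞) : WithBot ℕ∞) := by push_cast; rfl
    rw [e1] at h2
    exact absurd (le_bot_iff.mp h2) WithBot.coe_ne_bot
  | coe a =>
    cases a with
    | top =>
      exfalso
      have h' : (⊤ : ℕ∞) ≤ (n : ℕ∞) := WithBot.coe_le_coe.mp h1
      exact absurd (top_le_iff.mp h') (ENat.natCast_ne_top n)
    | coe m =>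
      have h1' : m ≤ n := by
        have : ((m : ℕ∞) : WithBot ℕ∞) ≤ ((n : ℕ∞) : WithBot ℕ∞) := h1
        exact_mod_cast this
      have e1 : (((n : ℕ∞) : WithBot ℕ∞) + ((tz : ℕ) : WithBot ℕ∞)) =
          (((n + tz : ℕ) : ℕ∞) : WithBot ℕ∞) := by push_cast; rfl
      have e2 : (((m : ℕ∞) : WithBot ℕ∞) + ((e : ℕ) : WithBot ℕ∞)) =
          (((m + e : ℕ) : ℕ∞) : WithBot ℕ∞) := by push_cast; rfl
      have h2' : (((n : ℕ∞) : WithBot ℕ∞) + ((tz : ℕ) : WithBot ℕ∞)) ≤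
          (((m : ℕ∞) : WithBot ℕ∞) + ((e : ℕ) : WithBot ℕ∞)) := h2
      rw [e1, e2] at h2'
      have h2'' : n + tz ≤ m + e := by exact_mod_cast h2'
      omega

theorem main4917 [IsLocallyNoetherian Y] [IrreducibleSpace X] (f : X ⟶ Y)
    [LocallyOfFiniteType f] [IsDominant f] (x : X)
    (h : ∀ z : ↥(f.fiber (f.base x)), f.asFiber x ∈ closure {z} →
      (∀ z' : ↥(f.fiber (f.base x)), z ∈ closure {z'} → z' = z) →
      EGA43.IsOpenAt f.base ((f.fiberι (f.base x)).base z)) :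
    EGA43.IsEquidimAt f x := by
  haveI : IsLocallyNoetherian X := LocallyOfFiniteType.isLocallyNoetherian f
  set ξ : X := genericPoint X with hξ
  have hξgen : ∀ w : X, ξ ⤳ w := fun w => _root_.genericPoint_specializes w
  have hξmax : ∀ ξ' : X, ξ' ⤳ ξ → ξ' = ξ := fun ξ' hξ' => (hξ'.antisymm (hξgen ξ')).eq
  have hmax_eq : ∀ ξ' : X, (∀ ξ'' : X, ξ'' ⤳ ξ' → ξ'' = ξ') → ξ' = ξ :=
    fun ξ' hξ' => (hξ' ξ (hξgen ξ')).symm
  -- `f ξ` is the generic point of `Y`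
  have hηgen : ∀ y : Y, f ξ ⤳ y := by
    intro y
    rw [specializes_iff_mem_closure]
    have h1 : Set.range f ⊆ closure ({f ξ} : Set Y) := by
      rintro _ ⟨w, rfl⟩
      exact specializes_iff_mem_closure.mp ((hξgen w).map f.continuous)
    have h2 : closure (Set.range f) ⊆ closure ({f ξ} : Set Y) :=
      closure_minimal h1 isClosed_closure
    have h3 : closure (Set.range f) = Set.univ := f.denseRange.closure_range
    rw [h3] at h2
    exact h2 (Set.mem_univ y)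
  have hηmax : ∀ η : Y, η ⤳ f ξ → η = f ξ := fun η hη => (hη.antisymm (hηgen η)).eq
  set e : ℕ := tr f ξ with he
  -- Claim A
  have claimA : ∀ z₀ : X, f z₀ = f x → z₀ ⤳ x →
      (∀ z' : X, f z' = f z₀ → z' ⤳ z₀ → z' = z₀) → tr f z₀ ≤ e := by
    intro z₀ hz hzx hmax
    have hopen := isOpenAt_of_hyp f x h z₀ hz hzx hmax
    have h1 := stalk_dim_le_of_isOpenAt f z₀ hopen
    obtain ⟨𝔭₀, h𝔭₀, hdim⟩ := exists_minimalPrime_dim_eq (X.presheaf.stalk z₀)
    haveI : 𝔭₀.IsPrime := h𝔭₀.1.1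
    obtain ⟨ξ', hξ'z, hξ'max, -, hineq⟩ := stalk_pair_le' f z₀ 𝔭₀
    have hξ'eq : ξ' = ξ := hmax_eq ξ' (hξ'max h𝔭₀)
    rw [hξ'eq, hdim] at hineq
    haveI : (𝔭₀.comap (f.stalkMap z₀).hom).IsPrime := Ideal.comap_isPrime _ 𝔭₀
    have hq : ringKrullDim (Y.presheaf.stalk (f z₀) ⧸ 𝔭₀.comap (f.stalkMap z₀).hom) ≤
        ringKrullDim (Y.presheaf.stalk (f z₀)) :=
      ringKrullDim_le_of_surjective _ Ideal.Quotient.mk_surjective
    have h2 : ringKrullDim (X.presheaf.stalk z₀) + ((tr f z₀ : ℕ) : WithBot ℕ∞) ≤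
        ringKrullDim (Y.presheaf.stalk (f z₀)) + ((e : ℕ) : WithBot ℕ∞) :=
      hineq.trans (add_le_add_left hq _)
    exact arith4917 _ _ _ _ ringKrullDim_ne_top ringKrullDim_ne_bot h1 h2
  -- Claim B
  have hfx : FlatMor.fibreDimAt f x ≤ ((e : ℕ) : WithBot ℕ∞) := by
    obtain ⟨z, hfz, hzx, hzmax, htr⟩ := exists_max_tr f x
    rw [← htr]
    exact_mod_cast claimA z hfz hzx hzmax
  set U' : X.Opens := ⟨{w : X | FlatMor.fibreDimAt f w ≤ e}, Chev.isOpen_fibreDimAt_le f e⟩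
    with hU'
  have hxU' : x ∈ U' := hfx
  refine isEquidimAt_of_points' f x e U' hxU' ?_ ?_
  · intro ξ' _ hmax
    rw [hmax_eq ξ' hmax]
    exact ⟨hηgen (f x), hηmax⟩
  · intro ζ hζU hζmax
    have h1 : FlatMor.fibreDimAt f ζ = ((tr f ζ : ℕ) : ℕ∞) := fibreDimAt_of_max f ζ hζmax
    have h2 : tr f ζ ≤ e := by
      have h2' : FlatMor.fibreDimAt f ζ ≤ ((e : ℕ) : WithBot ℕ∞) := hζU
      rw [h1] at h2'
      exact_mod_cast h2'
    have h3 := fibreDimAt_mono f (hξgen ζ)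
    rw [fibreDimAt_of_max f ξ (fun ξ' _ hsp => hξmax ξ' hsp), h1] at h3
    have h5 : e ≤ tr f ζ := by exact_mod_cast h3
    omega

end Groth.Agent.Lib.Helper24.OpenAt
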